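import Groth.Agent.PerfectionLib.Mile
import Groth.Agent.AmpleDevLib.Pull
import Groth.Agent.AmpleThLib.Ample
import Groth.Agent.AmpleDevLib.Components
import Groth.Agent.CubeLib.Glue

/-!
# Invertible modules and sections along a perfection
-/

set_option autoImplicit false
set_option linter.style.haveILetI false
universe u

open CategoryTheory CategoryTheory.Limits AlgebraicGeometry TopologicalSpace Opposite
open AmpleLib (shT GenAt GenOn res res_res res_refl res_smul)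
open AmpleThLib (pS pS_res pS_smul pS_genOn exists_coeff mem_genSet_coeff)
open TwistLib (genSet)
open KFlatLib (pb puSec)
open Groth.Agent.PerfectionLib

noncomputable section

namespace PerfAmpleLib

variable {p : ℕ} [Fact p.Prime] {X XP : Scheme.{u}} [FrobSch.IsCharP X p] [FrobSch.IsCharP XP p]
  {π : XP ⟶ X}

/-- kernels on quasi-compact opens are killed by a power of Frobenius -/
theorem exists_pow_zero (hπ : FrobSch.IsPerfection π p) [QuasiSeparatedSpace X] (U V : X.affineOpens)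
    (d : Γ(X, U.1 ⊓ V.1)) (hd : π.app (U.1 ⊓ V.1) d = 0) : ∃ m : ℕ, d ^ p ^ m = 0 := by
  have hu := univHomeo_of_isPerfection p X hπ
  have hc : IsCompact ((U.1 ⊓ V.1 : X.Opens) : Set X) :=
    QuasiSeparatedSpace.inter_isCompact _ _ U.1.2 U.2.isCompact V.1.2 V.2.isCompact
  obtain ⟨s, hs⟩ := hc.elim_finite_subcover (fun W : {W : X.affineOpens // W.1 ≤ U.1 ⊓ V.1} => (W.1.1 : Set X))
    (fun W => W.1.1.2) (fun y hy => by
      obtain ⟨W, hW, hyW, hle⟩ := exists_isAffineOpen_mem_and_subset hy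
      exact Set.mem_iUnion.mpr ⟨⟨⟨W, hW⟩, hle⟩, hyW⟩)
  have hk : ∀ W : {W : X.affineOpens // W.1 ≤ U.1 ⊓ V.1},
      ∃ m : ℕ, (X.presheaf.map (homOfLE W.2).op).hom d ^ p ^ m = 0 := fun W => by
    apply (isPC_app hπ.1 π hu W.1).ker
    have h1 := ConcreteCategory.congr_hom (π.naturality (homOfLE W.2).op) d
    simp only [CommRingCat.comp_apply] at h1
    refine h1.trans ?_
    rw [hd, map_zero]
  choose m hm using hk
  refine ⟨s.sup m, X.sheaf.eq_of_locally_eq' (fun W : s => W.1.1.1) (U.1 ⊓ V.1) (fun W => homOfLE W.1.2)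
    (fun y hy => ?_) _ _ fun W => ?_⟩
  · obtain ⟨W, hW, hyW⟩ := Set.mem_iUnion₂.mp (hs hy)
    exact Opens.mem_iSup.mpr ⟨⟨W, hW⟩, hyW⟩
  · refine (map_pow _ _ _).trans (Eq.trans ?_ (map_zero _).symm)
    change (X.presheaf.map (homOfLE W.1.2).op).hom d ^ p ^ s.sup m = 0
    rw [← Nat.add_sub_cancel' (Finset.le_sup W.2 : m W.1 ≤ s.sup m), pow_add, pow_mul, hm,
      zero_pow (pow_ne_zero _ (Fact.out : p.Prime).ne_zero)]

theorem exists_affine_frame {N : X.Modules} (hN : PicF.IsInvertible N) (x : X) :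
    ∃ (U : X.affineOpens) (e : Γ(N, U.1)), x ∈ U.1 ∧ GenOn N e := by
  obtain ⟨U, e, hxU, he⟩ := TwistLib.exists_genOn hN x
  obtain ⟨V, hV, hxV, hVU⟩ := exists_isAffineOpen_mem_and_subset hxU
  exact ⟨⟨V, hV⟩, res N hVU e, hxV, he.res hVU⟩

theorem exists_transition {N : X.Modules} {U V : X.Opens} {e : Γ(N, U)} (he : GenOn N e) (f : Γ(N, V)) :
    ∃ r : Γ(X, U ⊓ V), r • res N inf_le_left e = res N inf_le_right f :=
  (he (U ⊓ V) inf_le_left).2 _

/-- a power of a section descends, with the same locus -/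
theorem exists_desc_pow (hπ : FrobSch.IsPerfection π p) [CompactSpace X] [QuasiSeparatedSpace X]
    {N : X.Modules} (hN : PicF.IsInvertible N) (σ : Γ(pb π N, ⊤)) :
    ∃ (n : ℕ) (s : Γ(CohB1.tensorPow N (p ^ n), ⊤)),
      π ⁻¹ᵁ genSet (AmpleThLib.tensorPow_isInvertible hN (p ^ n)) s =
        genSet (AmpleDevLib.isInvertible_pb π hN) σ := by
  classical
  have hu := univHomeo_of_isPerfection p X hπ
  have hpp : 0 < p := (Fact.out : p.Prime).pos
  choose U e hxU he using exists_affine_frame hN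
  obtain ⟨t, ht⟩ := isCompact_univ.elim_finite_subcover (fun x => ((U x).1 : Set X)) (fun x => (U x).1.2)
    fun x _ => Set.mem_iUnion.mpr ⟨x, hxU x⟩
  have hcov : ∀ y : X, ∃ x ∈ t, y ∈ (U x).1 := fun y => by simpa using ht (Set.mem_univ y)
  choose b hb using fun x => exists_coeff σ (AmpleDevLib.puSec_genOn π (he x))
  choose n a ha using fun x => (isPC_app hπ.1 π hu (U x)).surj (b x)
  let q := t.sup n
  let A : ∀ x, Γ(X, (U x).1) := fun x => a x ^ p ^ (q - n x)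
  have hA : ∀ x ∈ t, π.app (U x).1 (A x) = b x ^ p ^ q := fun x hx => by
    rw [map_pow, ha, ← pow_mul, ← pow_add, Nat.add_sub_cancel' (Finset.le_sup hx : n x ≤ q)]
  choose r hr using fun x y : X => exists_transition (he x) (e y)
  let d : ∀ x y, Γ(X, (U x).1 ⊓ (U y).1) := fun x y =>
    (X.presheaf.map (homOfLE (inf_le_left : (U x).1 ⊓ (U y).1 ≤ (U x).1)).op).hom (A x) -
      (X.presheaf.map (homOfLE (inf_le_right : (U x).1 ⊓ (U y).1 ≤ (U y).1)).op).hom (A y) * r x y ^ p ^ q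
  have hd : ∀ x y, ∃ m : ℕ, x ∈ t → y ∈ t → d x y ^ p ^ m = 0 := fun x y => by
    by_cases hxy : x ∈ t ∧ y ∈ t
    · have key : π.app _ (d x y) = 0 := by
        have hgen := (AmpleDevLib.puSec_genOn π (he x)).res
          (π.preimage_mono (inf_le_left : (U x).1 ⊓ (U y).1 ≤ (U x).1))
        have h1 := congrArg (res (pb π N) (π.preimage_mono (inf_le_left : (U x).1 ⊓ (U y).1 ≤ (U x).1))) (hb x)
        have h2 := congrArg (res (pb π N) (π.preimage_mono (inf_le_right : (U x).1 ⊓ (U y).1 ≤ (U y).1))) (hb y)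
        rw [res_smul, res_res] at h1 h2
        have h3 := congrArg (puSec π) (hr x y)
        rw [TwistLib.puSec_smul, TwistLib.puSec_res π, TwistLib.puSec_res π] at h3
        rw [← h3, smul_smul, ← h1] at h2
        have h4 := (hgen _ le_rfl).1 (by simpa only [res_refl] using h2)
        have nat : ∀ {W W' : X.Opens} (h : W' ≤ W) (c : Γ(X, W)),
            π.app W' ((X.presheaf.map (homOfLE h).op).hom c) =
              (XP.presheaf.map (homOfLE (π.preimage_mono h)).op).hom (π.app W c) := fun h c =>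
          ConcreteCategory.congr_hom (π.naturality (homOfLE h).op) c
        rw [map_sub, map_mul, nat, nat, hA x hxy.1, hA y hxy.2, map_pow, map_pow, map_pow, ← mul_pow, sub_eq_zero]
        exact congrArg (· ^ p ^ q) h4.symm
      obtain ⟨m, hm⟩ := exists_pow_zero hπ (U x) (U y) _ key
      exact ⟨m, fun _ _ => hm⟩
    · exact ⟨0, fun h h' => absurd ⟨h, h'⟩ hxy⟩
  choose m hm using hd
  let M := (t ×ˢ t).sup fun z => m z.1 z.2
  let P := p ^ (q + M)
  let sec : ∀ x : t, Γ(CohB1.tensorPow N P, (U x).1) := fun x => (A x) ^ p ^ M • pS (e x) P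
  obtain ⟨s, hs, -⟩ := TopCat.Sheaf.existsUnique_gluing' (Coh.toAb (CohB1.tensorPow N P))
    (fun x : t => (U x).1) ⊤ (fun x => homOfLE le_top)
    (fun y _ => by obtain ⟨x, hx, hy⟩ := hcov y; exact Opens.mem_iSup.mpr ⟨⟨x, hx⟩, hy⟩) sec (fun ⟨x, hx⟩ ⟨y, hy⟩ => by
      change res (CohB1.tensorPow N P) (inf_le_left : (U x).1 ⊓ (U y).1 ≤ (U x).1) _ =
        res (CohB1.tensorPow N P) (inf_le_right : (U x).1 ⊓ (U y).1 ≤ (U y).1) _
      rw [res_smul, res_smul, pS_res, pS_res, ← hr x y, pS_smul, smul_smul]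
      congr 1
      refine (map_pow _ (A x) _).trans (Eq.trans ?_ (congrArg (· * _) (map_pow _ (A y) _).symm))
      have h0 : d x y ^ p ^ M = 0 := by
        have hle : m x y ≤ M := Finset.le_sup (f := fun z : X × X => m z.1 z.2)
          (Finset.mem_product.mpr ⟨hx, hy⟩ : (x, y) ∈ t ×ˢ t)
        obtain ⟨k, hk⟩ := Nat.exists_eq_add_of_le hle
        rw [hk, pow_add, pow_mul, hm x y hx hy,
          zero_pow (pow_ne_zero _ (Fact.out : p.Prime).ne_zero)]
      rw [charP_pow_sub (FrobSch.natCast_eq_zero_app X p _), sub_eq_zero, mul_pow, ← pow_mul, ← pow_add] at h0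
      exact h0)
  refine ⟨q + M, s, Opens.ext (Set.ext fun y => ?_)⟩
  obtain ⟨x, hx, hy⟩ := hcov (π y)
  have h1 := mem_genSet_coeff (AmpleThLib.tensorPow_isInvertible hN P) s (pS_genOn (he x) P)
    (show A x ^ p ^ M • pS (e x) P = res _ le_top s from (hs ⟨x, hx⟩).symm)
  have h2 := mem_genSet_coeff (AmpleDevLib.isInvertible_pb π hN) σ (AmpleDevLib.puSec_genOn π (he x)) (hb x)
  have h3 : π ⁻¹ᵁ X.basicOpen (A x ^ p ^ M) = XP.basicOpen (b x) := by
    rw [Scheme.preimage_basicOpen, map_pow, hA x hx, ← pow_mul, ← pow_add]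
    exact Scheme.basicOpen_pow _ _ (pow_pos hpp _)
  rw [← h1, ← h2] at h3
  have h4 := SetLike.ext_iff.mp h3 y
  exact ⟨fun h => (h4.mp ⟨h, hy⟩).1, fun h => (h4.mpr ⟨h, hy⟩).1⟩

theorem iso_of_eqvGen {L M : X.Modules}
    (h : Relation.EqvGen (fun A B : X.Modules => Nonempty (A ≅ B)) L M) : Nonempty (L ≅ M) := by
  induction h with
  | rel _ _ h => exact h
  | refl a => exact ⟨Iso.refl a⟩
  | symm _ _ _ ih => exact ⟨ih.some.symm⟩
  | trans _ _ _ _ _ ih₁ ih₂ => exact ⟨ih₁.some ≪≫ ih₂.some⟩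

theorem trivialCl_iff {L : X.Modules} :
    PicF.IsTrivialCl (PicF.cl L) ↔ Nonempty (L ≅ Coh.structureModule X) :=
  ⟨fun h => iso_of_eqvGen (Quot.eqvGen_exact h), fun ⟨e⟩ => Quot.sound ⟨e⟩⟩

/-- roots of sections along a perfect scheme -/
theorem exists_root {Z : Scheme.{u}} [FrobSch.IsCharP Z p] (hZ : FrobSch.IsPerfect Z p) {L : Z.Modules}
    (hL : PicF.IsInvertible L) (n : ℕ) (τ : Γ(CohB1.tensorPow L (p ^ n), ⊤))
    (hτ : GenOn (CohB1.tensorPow L (p ^ n)) τ) : Nonempty (L ≅ Coh.structureModule Z) := by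
  have hroot : ∀ V : Z.Opens, Function.Bijective fun s : Γ(Z, V) => s ^ p ^ n := fun V =>
    (bijective_pow hZ V).pow_bij n
  have hloc : ∀ g : AmpleThLib.Gens L, ∃ d : Γ(Z, g.1), GenOn L (d • g.2.1) ∧
      d ^ p ^ n • pS g.2.1 (p ^ n) = res _ le_top τ := fun g => by
    obtain ⟨c, hc⟩ := exists_coeff τ (pS_genOn g.2.2 (p ^ n))
    obtain ⟨d, hd⟩ := (hroot g.1).2 c
    dsimp only at hd
    have hc' : d ^ p ^ n • pS g.2.1 (p ^ n) = res _ le_top τ := by rw [hd]; exact hc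
    refine ⟨d, TwistLib.genOn_of_genAt fun z hz => ?_, hc'⟩
    refine (AmpleLib.genAt_smul_iff d g.2.1 hz (g.2.2.genAt hz)).mpr ?_
    have h1 := (mem_genSet_coeff (AmpleThLib.tensorPow_isInvertible hL (p ^ n)) τ (pS_genOn g.2.2 (p ^ n)) hc').le
      ⟨show GenAt _ τ _ from hτ.genAt (show z ∈ (⊤ : Z.Opens) from trivial), hz⟩
    exact (Scheme.basicOpen_pow _ d (pow_pos (Fact.out : p.Prime).pos n)).le h1
  choose d hgen hd using hloc
  have hglue : ∀ i j : AmpleThLib.Gens L, res L (inf_le_left : i.1 ⊓ j.1 ≤ i.1) (d i • i.2.1) =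
      res L inf_le_right (d j • j.2.1) := fun i j => by
    obtain ⟨r, hr⟩ := exists_transition (V := j.1) i.2.2 j.2.1
    have h1 := congrArg (res _ (inf_le_left : i.1 ⊓ j.1 ≤ i.1)) (hd i)
    have h2 := congrArg (res _ (inf_le_right : i.1 ⊓ j.1 ≤ j.1)) (hd j)
    rw [res_smul, res_res, pS_res] at h1 h2
    rw [← hr, pS_smul, smul_smul, map_pow, ← mul_pow, ← h1, map_pow] at h2
    have hg : GenOn L (res L (inf_le_left : i.1 ⊓ j.1 ≤ i.1) i.2.1) := i.2.2.res inf_le_left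
    have h3 := (hroot _).1 ((pS_genOn hg (p ^ n) _ le_rfl).1 (by simpa only [res_refl] using h2))
    rw [res_smul, res_smul, ← hr, smul_smul]
    exact congrArg (· • res L inf_le_left i.2.1) h3.symm
  obtain ⟨s, hs, -⟩ := CubeLib.trivial_of_compatible (fun g : AmpleThLib.Gens L => g.1)
    (fun z => AmpleThLib.gens_cover hL z) (fun g => d g • g.2.1) hgen hglue
  exact CubeLib.trivial_of_genOn_top hs

theorem isTrivial_pullCl_iff (hπ : FrobSch.IsPerfection π p) [CompactSpace X] [QuasiSeparatedSpace X]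
    {L : X.Modules} (hL : PicF.IsInvertible L) :
    PicF.IsTrivialCl (PicF.pullCl π (PicF.cl L)) ↔
      ∃ n : ℕ, PicF.IsTrivialCl (PicF.cl (CohB1.tensorPow L (p ^ n))) := by
  obtain ⟨_, _⟩ := facts (univHomeo_of_isPerfection p X hπ)
  have hgen : ∀ {Y : Scheme.{u}} {M : Y.Modules}, Nonempty (M ≅ Coh.structureModule Y) →
      ∃ s : Γ(M, ⊤), GenOn M s := fun h => CubeLib.exists_genOn_top h
  constructor
  · intro h
    obtain ⟨σ, hσ⟩ := hgen (trivialCl_iff.mp (show PicF.IsTrivialCl (PicF.cl (pb π L)) from h))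
    obtain ⟨n, s, hs⟩ := exists_desc_pow hπ hL σ
    refine ⟨n, trivialCl_iff.mpr (CubeLib.trivial_of_genOn_top (s := s) (TwistLib.genOn_of_genAt fun x _ => ?_))⟩
    obtain ⟨y, rfl⟩ := π.surjective x
    exact hs.ge (show y ∈ genSet _ σ from hσ.genAt (show y ∈ (⊤ : XP.Opens) from trivial))
  · rintro ⟨n, h⟩
    obtain ⟨t, ht⟩ := hgen (trivialCl_iff.mp h)
    obtain ⟨φ, -⟩ := AmpleDevLib.exists_pullPowIso π hL (p ^ n)
    have hP := AmpleThLib.tensorPow_isInvertible hL (p ^ n)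
    have ht' : GenOn (pb π (CohB1.tensorPow L (p ^ n))) (puSec π t) := AmpleDevLib.puSec_genOn π ht
    refine trivialCl_iff.mpr (exists_root hπ.1 (AmpleDevLib.isInvertible_pb π hL) n
      (φ.hom.app ⊤ (puSec π t)) (TwistLib.genOn_of_genAt fun y _ => ?_))
    exact (AmpleThLib.genSet_iso (AmpleDevLib.isInvertible_pb π hP)
      (AmpleThLib.tensorPow_isInvertible (AmpleDevLib.isInvertible_pb π hL) (p ^ n)) φ _).ge
      (ht'.genAt (show y ∈ π ⁻¹ᵁ (⊤ : X.Opens) from trivial))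

theorem isAmple_pullback_iff (hπ : FrobSch.IsPerfection π p) [CompactSpace X] [QuasiSeparatedSpace X]
    {L : X.Modules} (hL : PicF.IsInvertible L) : CohB1.IsAmple L ↔ CohB1.IsAmple (pb π L) := by
  have hu := univHomeo_of_isPerfection p X hπ
  haveI := isAffineHom_of_univHomeo hu
  obtain ⟨_, _⟩ := facts hu
  refine ⟨AmpleDevLib.isAmple_pb π hL, fun h => ?_⟩
  have hLP := AmpleDevLib.isInvertible_pb π hL
  refine (AmpleThLib.isAmple_iff (hL := hL)).mpr ⟨inferInstance, fun x => ?_⟩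
  obtain ⟨y, rfl⟩ := π.surjective x
  obtain ⟨m, V, hm, ⟨σ, rfl⟩, hyV, hV⟩ := ((AmpleThLib.isAmple_iff (hL := hLP)).mp h).2 y
  have hLm := AmpleThLib.tensorPow_isInvertible hL m
  obtain ⟨φ, -⟩ := AmpleDevLib.exists_pullPowIso π hL m
  let σ' : Γ(pb π (CohB1.tensorPow L m), ⊤) := φ.inv.app ⊤ σ
  have hσ' : genSet (AmpleDevLib.isInvertible_pb π hLm) σ' = genSet (AmpleThLib.tensorPow_isInvertible hLP m) σ :=
    AmpleThLib.genSet_iso (AmpleThLib.tensorPow_isInvertible hLP m) (AmpleDevLib.isInvertible_pb π hLm) φ.symm σ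
  obtain ⟨n, s, hs⟩ := exists_desc_pow hπ hLm σ'
  obtain ⟨ψ, -⟩ := AmpleThLib.exists_powIso hL m (p ^ n)
  let W := genSet (AmpleThLib.tensorPow_isInvertible hLm (p ^ n)) s
  have hW : π ⁻¹ᵁ W = genSet (AmpleThLib.tensorPow_isInvertible hLP m) σ := hs.trans hσ'
  refine ⟨m * p ^ n, W, Nat.mul_pos hm (pow_pos (Fact.out : p.Prime).pos n), ⟨ψ.hom.app ⊤ s,
    AmpleThLib.genSet_iso (AmpleThLib.tensorPow_isInvertible hLm (p ^ n))
      (AmpleThLib.tensorPow_isInvertible hL (m * p ^ n)) ψ s⟩, hW.ge hyV, ?_⟩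
  haveI : IsAffine (π ⁻¹ᵁ W : XP.Opens).toScheme := by rw [hW]; exact hV
  haveI : FrobSch.IsCharP (W : Scheme.{u}) p := FrobSch.IsCharP.of_hom W.ι p
  haveI : FrobSch.IsCharP (π ⁻¹ᵁ W : Scheme.{u}) p := FrobSch.IsCharP.of_hom (π ⁻¹ᵁ W).ι p
  exact isAffine_of_isAffine (isPerfection_restrict hπ W)

end PerfAmpleLib
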