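import Groth.Agent.PerfAmpleLib.Main
import Groth.Agent.PicH1Lib.Cocycle

/-!
# Invertible modules on a perfection are pulled back up to Frobenius powers
-/

set_option autoImplicit false
set_option linter.style.haveILetI false
universe u

open CategoryTheory CategoryTheory.Limits AlgebraicGeometry TopologicalSpace Opposite
open AmpleLib (GenAt GenOn res res_res res_refl res_smul)
open AmpleThLib (pS pS_res pS_smul pS_genOn)
open KFlatLib (pb puSec)
open DevissLib (gm gm_smul gm_map)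
open Groth.Agent.PerfectionLib

noncomputable section

namespace PerfAmpleLib

variable {p : ℕ} [Fact p.Prime] {X XP : Scheme.{u}} [FrobSch.IsCharP X p] [FrobSch.IsCharP XP p]
  {π : XP ⟶ X}

/-- restriction of functions -/
abbrev rx {Z : Scheme.{u}} {U W : Z.Opens} (h : W ≤ U) : Γ(Z, U) →+* Γ(Z, W) :=
  (Z.presheaf.map (homOfLE h).op).hom

theorem rx_app {U W : X.Opens} (h : W ≤ U) (c : Γ(X, U)) :
    π.app W (rx h c) = rx (π.preimage_mono h) (π.app U c) :=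
  ConcreteCategory.congr_hom (π.naturality (homOfLE h).op) c

theorem pow_eq_zero_mono {R : Type*} [CommRing R] {x : R} {m M : ℕ} (h : x ^ p ^ m = 0) (hle : m ≤ M) :
    x ^ p ^ M = 0 := by
  obtain ⟨k, rfl⟩ := Nat.exists_eq_add_of_le hle
  rw [pow_add, pow_mul, h, zero_pow (pow_ne_zero _ (Fact.out : p.Prime).ne_zero)]

/-- kernels on quasi-compact opens are killed by a power of Frobenius -/
theorem exists_pow_zero_qc (hπ : FrobSch.IsPerfection π p) (O : X.Opens) (hO : IsCompact (O : Set X))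
    (d : Γ(X, O)) (hd : π.app O d = 0) : ∃ m : ℕ, d ^ p ^ m = 0 := by
  have hu := univHomeo_of_isPerfection p X hπ
  obtain ⟨s, hs⟩ := hO.elim_finite_subcover (fun W : {W : X.affineOpens // W.1 ≤ O} => (W.1.1 : Set X))
    (fun W => W.1.1.2) (fun y hy => by
      obtain ⟨W, hW, hyW, hle⟩ := exists_isAffineOpen_mem_and_subset hy
      exact Set.mem_iUnion.mpr ⟨⟨⟨W, hW⟩, hle⟩, hyW⟩)
  have hk : ∀ W : {W : X.affineOpens // W.1 ≤ O}, ∃ m : ℕ, rx W.2 d ^ p ^ m = 0 := fun W =>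
    (isPC_app hπ.1 π hu W.1).ker _ ((rx_app W.2 d).trans (by rw [hd, map_zero]))
  choose m hm using hk
  refine ⟨s.sup m, X.sheaf.eq_of_locally_eq' (fun W : s => W.1.1.1) O (fun W => homOfLE W.1.2)
    (fun y hy => ?_) _ _ fun W => ?_⟩
  · obtain ⟨W, hW, hyW⟩ := Set.mem_iUnion₂.mp (hs hy)
    exact Opens.mem_iSup.mpr ⟨⟨W, hW⟩, hyW⟩
  · exact (map_pow _ _ _).trans ((pow_eq_zero_mono (hm W.1) (Finset.le_sup W.2)).trans (map_zero _).symm)

/-- some power of a function on a quasi-compact open descends -/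
theorem exists_pow_mem_qc (hπ : FrobSch.IsPerfection π p) [QuasiSeparatedSpace X] (O : X.Opens)
    (hO : IsCompact (O : Set X)) (f : Γ(XP, π ⁻¹ᵁ O)) :
    ∃ (n : ℕ) (a : Γ(X, O)), π.app O a = f ^ p ^ n := by
  classical
  have hu := univHomeo_of_isPerfection p X hπ
  obtain ⟨t, ht⟩ := hO.elim_finite_subcover (fun W : {W : X.affineOpens // W.1 ≤ O} => (W.1.1 : Set X))
    (fun W => W.1.1.2) (fun y hy => by
      obtain ⟨W, hW, hyW, hle⟩ := exists_isAffineOpen_mem_and_subset hy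
      exact Set.mem_iUnion.mpr ⟨⟨⟨W, hW⟩, hle⟩, hyW⟩)
  choose n a ha using fun W : {W : X.affineOpens // W.1 ≤ O} =>
    (isPC_app hπ.1 π hu W.1).surj (rx (π.preimage_mono W.2) f)
  let q := t.sup n
  let A : ∀ W : {W : X.affineOpens // W.1 ≤ O}, Γ(X, W.1.1) := fun W => a W ^ p ^ (q - n W)
  have hA : ∀ W ∈ t, π.app W.1.1 (A W) = rx (π.preimage_mono W.2) (f ^ p ^ q) := fun W hW => by
    rw [map_pow, ha, ← pow_mul, ← pow_add, Nat.add_sub_cancel' (Finset.le_sup hW : n W ≤ q), map_pow]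
  have hz : ∀ W W' : {W : X.affineOpens // W.1 ≤ O}, ∃ m : ℕ, W ∈ t → W' ∈ t →
      (rx (inf_le_left : W.1.1 ⊓ W'.1.1 ≤ W.1.1) (A W) - rx inf_le_right (A W')) ^ p ^ m = 0 := fun W W' => by
    by_cases h : W ∈ t ∧ W' ∈ t
    · have key : π.app _ (rx (inf_le_left : W.1.1 ⊓ W'.1.1 ≤ W.1.1) (A W) - rx inf_le_right (A W')) = 0 := by
        rw [map_sub, rx_app, rx_app, hA W h.1, hA W' h.2, sub_eq_zero]
        exact (AmpleLib.res_res (Coh.structureModule XP) _ _ _).trans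
          (AmpleLib.res_res (Coh.structureModule XP) _ _ _).symm
      obtain ⟨m, hm⟩ := exists_pow_zero hπ W.1 W'.1 _ key
      exact ⟨m, fun _ _ => hm⟩
    · exact ⟨0, fun h1 h2 => absurd ⟨h1, h2⟩ h⟩
  choose m hm using hz
  let M := (t ×ˢ t).sup fun z => m z.1 z.2
  obtain ⟨c, hc, -⟩ := X.sheaf.existsUnique_gluing' (fun W : t => W.1.1.1) O (fun W => homOfLE W.1.2)
    (fun y hy => by obtain ⟨W, hW, hyW⟩ := Set.mem_iUnion₂.mp (ht hy); exact Opens.mem_iSup.mpr ⟨⟨W, hW⟩, hyW⟩)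
    (fun W => A W.1 ^ p ^ M) (fun ⟨W, hW⟩ ⟨W', hW'⟩ => by
      refine (map_pow (rx inf_le_left) _ _).trans (Eq.trans ?_ (map_pow (rx inf_le_right) _ _).symm)
      rw [← sub_eq_zero, ← charP_pow_sub (FrobSch.natCast_eq_zero_app X p _)]
      exact pow_eq_zero_mono (hm W W' hW hW') (Finset.le_sup (f := fun z : _ × _ => m z.1 z.2)
        (Finset.mem_product.mpr ⟨hW, hW'⟩ : (W, W') ∈ t ×ˢ t)))
  refine ⟨q + M, c, XP.sheaf.eq_of_locally_eq' (fun W : t => π ⁻¹ᵁ W.1.1.1) (π ⁻¹ᵁ O)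
    (fun W => homOfLE (π.preimage_mono W.1.2)) (fun y hy => ?_) _ _ fun ⟨W, hW⟩ => ?_⟩
  · obtain ⟨W, hW, hyW⟩ := Set.mem_iUnion₂.mp (ht (show π y ∈ O from hy))
    exact Opens.mem_iSup.mpr ⟨⟨W, hW⟩, hyW⟩
  · change rx (π.preimage_mono W.2) (π.app O c) = rx (π.preimage_mono W.2) (f ^ p ^ (q + M))
    rw [← rx_app W.2, show rx W.2 c = A W ^ p ^ M from hc ⟨W, hW⟩, map_pow, hA W hW, ← map_pow, ← pow_mul, ← pow_add]

/-- powers of an invertible module descend -/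
theorem exists_pow_descend (hπ : FrobSch.IsPerfection π p) [CompactSpace X] [QuasiSeparatedSpace X]
    {N : XP.Modules} (hN : PicF.IsInvertible N) :
    ∃ (n : ℕ) (L : X.Modules), PicF.IsInvertible L ∧ Nonempty (CohB1.tensorPow N (p ^ n) ≅ pb π L) := by
  classical
  have hu := univHomeo_of_isPerfection p X hπ
  obtain ⟨_, _⟩ := facts hu
  have hhom : IsHomeomorph π.base := MorphismProperty.universally_le _ _ hu
  have hfr : ∀ x : X, ∃ (U : X.affineOpens) (e : Γ(N, π ⁻¹ᵁ U.1)), x ∈ U.1 ∧ GenOn N e := fun x => by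
    obtain ⟨y, rfl⟩ := π.surjective x
    obtain ⟨V, e, hyV, he⟩ := TwistLib.exists_genOn hN y
    obtain ⟨U, hU, hxU, hle⟩ := exists_isAffineOpen_mem_and_subset
      (U := (⟨π '' (V : Set XP), hhom.isOpenMap _ V.2⟩ : X.Opens)) (show π y ∈ _ from ⟨y, hyV, rfl⟩)
    have hle' : π ⁻¹ᵁ U ≤ V := fun z hz => by
      obtain ⟨w, hw, he⟩ := hle hz
      rwa [hhom.injective he] at hw
    exact ⟨⟨U, hU⟩, res N hle' e, hxU, he.res hle'⟩
  choose Uc ec hxUc hec using hfr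
  obtain ⟨t, ht⟩ := isCompact_univ.elim_finite_subcover (fun x => ((Uc x).1 : Set X)) (fun x => (Uc x).1.2)
    fun x _ => Set.mem_iUnion.mpr ⟨x, hxUc x⟩
  let U : t → X.Opens := fun i => (Uc i).1
  have hcov : ∀ y : X, ∃ i : t, y ∈ U i := fun y => by
    obtain ⟨x, hx, hy⟩ := Set.mem_iUnion₂.mp (ht (Set.mem_univ y))
    exact ⟨⟨x, hx⟩, hy⟩
  let e : ∀ i : t, Γ(N, π ⁻¹ᵁ U i) := fun i => ec i
  have he : ∀ i, GenOn N (e i) := fun i => hec i
  have hc2 : ∀ i j, IsCompact ((U i ⊓ U j : X.Opens) : Set X) := fun i j =>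
    QuasiSeparatedSpace.inter_isCompact _ _ (U i).2 (Uc i).2.isCompact (U j).2 (Uc j).2.isCompact
  have hc3 : ∀ i j k, IsCompact ((U i ⊓ U j ⊓ U k : X.Opens) : Set X) := fun i j k =>
    QuasiSeparatedSpace.inter_isCompact _ _ (U i ⊓ U j).2 (hc2 i j) (U k).2 (Uc k).2.isCompact
  have hrex : ∀ i j : t, ∃ r : Γ(XP, π ⁻¹ᵁ (U i ⊓ U j)),
      r • res N (π.preimage_mono inf_le_left) (e i) = res N (π.preimage_mono inf_le_right) (e j) := fun i j =>
    (he i _ (π.preimage_mono inf_le_left)).2 _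
  choose r hr using hrex
  choose n₀ a₀ ha₀ using fun i j : t => exists_pow_mem_qc hπ (U i ⊓ U j) (hc2 i j) (r i j)
  let q := (Finset.univ : Finset (t × t)).sup fun z => n₀ z.1 z.2
  let b : ∀ i j : t, Γ(X, U i ⊓ U j) := fun i j => a₀ i j ^ p ^ (q - n₀ i j)
  have hb : ∀ i j, π.app _ (b i j) = r i j ^ p ^ q := fun i j => by
    rw [map_pow]
    refine (congrArg (· ^ _) (ha₀ i j)).trans ?_
    rw [← pow_mul, ← pow_add, Nat.add_sub_cancel'
      (Finset.le_sup (f := fun z : t × t => n₀ z.1 z.2) (Finset.mem_univ (i, j)))]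
  have hcoc : ∀ i j k, ∃ m : ℕ,
      (rx (inf_le_left : U i ⊓ U j ⊓ U k ≤ U i ⊓ U j) (b i j) *
        rx (inf_le_inf_right _ inf_le_right : U i ⊓ U j ⊓ U k ≤ U j ⊓ U k) (b j k) -
        rx (inf_le_inf_right _ inf_le_left : U i ⊓ U j ⊓ U k ≤ U i ⊓ U k) (b i k)) ^ p ^ m = 0 := fun i j k => by
    refine exists_pow_zero_qc hπ _ (hc3 i j k) _ ?_
    have l1 : π ⁻¹ᵁ (U i ⊓ U j ⊓ U k) ≤ π ⁻¹ᵁ (U i ⊓ U j) := fun z hz => ⟨hz.1.1, hz.1.2⟩
    have l2 : π ⁻¹ᵁ (U i ⊓ U j ⊓ U k) ≤ π ⁻¹ᵁ (U j ⊓ U k) := fun z hz => ⟨hz.1.2, hz.2⟩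
    have l3 : π ⁻¹ᵁ (U i ⊓ U j ⊓ U k) ≤ π ⁻¹ᵁ (U i ⊓ U k) := fun z hz => ⟨hz.1.1, hz.2⟩
    have h1 := congrArg (res N l1) (hr i j)
    have h2 := congrArg (res N l2) (hr j k)
    have h3 := congrArg (res N l3) (hr i k)
    rw [res_smul, res_res, res_res] at h1 h2 h3
    rw [← h1, smul_smul, ← h3] at h2
    have hg : GenOn N (res N (l1.trans (π.preimage_mono inf_le_left)) (e i)) := (he i).res _
    have h4 := (hg _ le_rfl).1 (by simpa only [res_refl] using h2)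
    rw [map_sub, map_mul, rx_app, rx_app, rx_app, hb, hb, hb, sub_eq_zero]
    refine (congrArg₂ (· * ·) (map_pow (rx l1) _ _) (map_pow (rx l2) _ _)).trans (Eq.trans ?_ (map_pow (rx l3) _ _).symm)
    exact (mul_pow _ _ _).symm.trans (congrArg (· ^ p ^ q) ((mul_comm _ _).trans h4))
  choose m hm using hcoc
  let M := (Finset.univ : Finset (t × t × t)).sup fun z => m z.1 z.2.1 z.2.2
  let a : ∀ i j : t, Γ(X, U i ⊓ U j) := fun i j => b i j ^ p ^ M
  have hA : ∀ i j, π.app _ (a i j) = r i j ^ p ^ (q + M) := fun i j => by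
    rw [map_pow]
    refine (congrArg (· ^ _) (hb i j)).trans ?_
    rw [← pow_mul, ← pow_add]
  have hC : ∀ i j k (x : X) (hi : x ∈ U i) (hj : x ∈ U j) (hk : x ∈ U k),
      X.presheaf.germ _ x (show x ∈ U i ⊓ U j from ⟨hi, hj⟩) (a i j) *
        X.presheaf.germ _ x (show x ∈ U j ⊓ U k from ⟨hj, hk⟩) (a j k) =
        X.presheaf.germ _ x (show x ∈ U i ⊓ U k from ⟨hi, hk⟩) (a i k) := fun i j k x hi hj hk => by
    have h0 := pow_eq_zero_mono (hm i j k)
      (Finset.le_sup (f := fun z : t × t × t => m z.1 z.2.1 z.2.2) (Finset.mem_univ (i, j, k)))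
    rw [charP_pow_sub (FrobSch.natCast_eq_zero_app X p _), sub_eq_zero, mul_pow, ← map_pow, ← map_pow,
      ← map_pow] at h0
    have h1 := congrArg (X.presheaf.germ _ x (show x ∈ U i ⊓ U j ⊓ U k from ⟨⟨hi, hj⟩, hk⟩)) h0
    rw [map_mul, TopCat.Presheaf.germ_res_apply, TopCat.Presheaf.germ_res_apply,
      TopCat.Presheaf.germ_res_apply] at h1
    exact h1
  have hrunit : ∀ i j, IsUnit (r i j) := fun i j => by
    refine CubeLib.isUnit_of_genOn ((he i).res (π.preimage_mono (inf_le_left : U i ⊓ U j ≤ U i))) ?_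
    rw [hr]
    exact (he j).res _
  have haunit : ∀ i j (x : X) (hx : x ∈ U i ⊓ U j), IsUnit (X.presheaf.germ _ x hx (a i j)) := fun i j x hx => by
    obtain ⟨y, rfl⟩ := π.surjective x
    rw [← X.mem_basicOpen _ _ hx]
    have : y ∈ π ⁻¹ᵁ X.basicOpen (a i j) := by
      rw [Scheme.preimage_basicOpen, hA, Scheme.basicOpen_of_isUnit _ ((hrunit i j).pow _)]
      exact hx
    exact this
  choose k₀ hk₀ using hcov
  let v : ∀ i (x : X), x ∈ U i → (X.presheaf.stalk x)ˣ := fun i x hx =>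
    (haunit (k₀ x) i x ⟨hk₀ x, hx⟩).unit
  have hv : ∀ i j (x : X) (hi : x ∈ U i) (hj : x ∈ U j),
      X.presheaf.germ _ x (show x ∈ U i ⊓ U j from ⟨hi, hj⟩) (a i j) * (v i x hi).1 = (v j x hj).1 :=
    fun i j x hi hj => by
      rw [mul_comm]
      exact hC (k₀ x) i j x (hk₀ x) hi hj
  let aR : ∀ i j : t, Γ(X, U i ⊓ U j) := fun i j => rx (le_inf inf_le_right inf_le_left) (a j i)
  obtain ⟨L, s, hs, hrel⟩ := PicH1Lib.exists_module_of_units (W := U) (v := v) fun i j =>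
    ⟨aR i j, fun x hx => by
      simp only [aR, TopCat.Presheaf.germ_res_apply]
      exact hv j i x hx.2 hx.1⟩
  have hL : PicF.IsInvertible L := TwistLib.isInvertible_of_genOn U (fun x => ⟨k₀ x, hk₀ x⟩) s hs
  have htrans : ∀ i j, a i j • res L inf_le_left (s i) = res L inf_le_right (s j) := fun i j => by
    refine TopCat.Presheaf.section_ext ((QCohLib.toAbF X).obj L : TopCat.Sheaf AddCommGrpCat _) _ _ _ fun x hx => ?_
    change gm L x hx _ = gm L x hx _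
    rw [gm_smul, gm_map, gm_map]
    refine (v i x hx.1).isUnit.smul_left_cancel.mp ?_
    rw [smul_smul, mul_comm, hv i j x hx.1 hx.2]
    exact hrel i j x hx.1 hx.2
  refine ⟨q + M, L, hL, ?_⟩
  obtain ⟨φ, -⟩ := AmpleThLib.exists_iso_gens (fun i => π ⁻¹ᵁ U i) (fun i => pS (e i) (p ^ (q + M)))
    (fun i => puSec π (s i)) (fun y => ⟨k₀ (π y), hk₀ (π y)⟩) (fun i => pS_genOn (he i) _)
    (fun i => AmpleDevLib.puSec_genOn π (hs i)) fun i j V hi hj => by
      have hV : V ≤ π ⁻¹ᵁ (U i ⊓ U j) := fun z hz => ⟨hi hz, hj hz⟩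
      refine ⟨rx hV (π.app _ (a i j)), ?_, ?_⟩
      · have h1 := congrArg (res N hV) (hr i j)
        rw [res_smul, res_res, res_res] at h1
        rw [pS_res, pS_res, ← h1, pS_smul, hA, map_pow]
      · have h1 := congrArg (fun z => res (pb π L) hV (puSec π z)) (htrans i j)
        rw [TwistLib.puSec_smul, TwistLib.puSec_res π, TwistLib.puSec_res π, res_smul, res_res, res_res] at h1
        exact h1
  exact ⟨φ⟩

end PerfAmpleLib
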